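import Mathlib

/-!
# Conjugacy of non-scalar 2 × 2 matrices

A non-scalar 2 × 2 matrix over a field is similar to the companion matrix of its characteristic polynomial.
-/

set_option autoImplicit false

namespace CfsgLib.GL2Classes

open Matrix

variable {F : Type*} [Field F]

/-- The companion matrix of `X² - t X + d`. -/
def companion (t d : F) : Matrix (Fin 2) (Fin 2) F := !![0, -d; 1, t]

@[simp] theorem trace_companion (t d : F) : (companion t d).trace = t := by
  simp [companion, Matrix.trace_fin_two]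

@[simp] theorem det_companion (t d : F) : (companion t d).det = d := by
  simp [companion, Matrix.det_fin_two]

theorem companion_ne_smul_one (t d c : F) : companion t d ≠ c • 1 := by
  intro h
  have := congrFun (congrFun h 1) 0
  simp [companion] at this

theorem exists_cyclic_vector {M : Matrix (Fin 2) (Fin 2) F} (hM : ∀ c : F, M ≠ c • 1) :
    ∃ x y : F, x * (M 1 0 * x + M 1 1 * y) - (M 0 0 * x + M 0 1 * y) * y ≠ 0 := by
  by_cases h10 : M 1 0 = 0
  · by_cases h01 : M 0 1 = 0
    · refine ⟨1, 1, ?_⟩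
      intro h
      rw [h10, h01] at h
      have h11 : M 1 1 = M 0 0 := by linear_combination h
      refine hM (M 0 0) ?_
      ext i j
      fin_cases i <;> fin_cases j <;> simp [h10, h01, h11]
    · refine ⟨0, 1, ?_⟩
      simpa using h01
  · refine ⟨1, 0, ?_⟩
    simpa using h10

theorem exists_similar_companion {M : Matrix (Fin 2) (Fin 2) F} (hM : ∀ c : F, M ≠ c • 1) :
    ∃ P : GL (Fin 2) F, M * (P : Matrix (Fin 2) (Fin 2) F) = P * companion M.trace M.det := by
  obtain ⟨x, y, hxy⟩ := exists_cyclic_vector hM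
  let P : Matrix (Fin 2) (Fin 2) F :=
    !![x, M 0 0 * x + M 0 1 * y; y, M 1 0 * x + M 1 1 * y]
  have hP : P.det ≠ 0 := by simpa [P, Matrix.det_fin_two] using hxy
  refine ⟨GeneralLinearGroup.mkOfDetNeZero P hP, ?_⟩
  show M * P = P * companion M.trace M.det
  ext i j
  fin_cases i <;> fin_cases j <;>
    simp [P, companion, Matrix.mul_apply, Fin.sum_univ_two, Matrix.det_fin_two, Matrix.trace_fin_two] <;>
    ring

/-- Two non-scalar invertible 2 × 2 matrices with the same trace and determinant are conjugate. -/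
theorem isConj_of_trace_det {g h : GL (Fin 2) F}
    (hg : ∀ c : F, (g : Matrix (Fin 2) (Fin 2) F) ≠ c • 1)
    (hh : ∀ c : F, (h : Matrix (Fin 2) (Fin 2) F) ≠ c • 1)
    (ht : (g : Matrix (Fin 2) (Fin 2) F).trace = (h : Matrix (Fin 2) (Fin 2) F).trace)
    (hd : (g : Matrix (Fin 2) (Fin 2) F).det = (h : Matrix (Fin 2) (Fin 2) F).det) :
    IsConj g h := by
  obtain ⟨P, hP⟩ := exists_similar_companion hg
  obtain ⟨Q, hQ⟩ := exists_similar_companion hh
  rw [ht, hd] at hP
  refine isConj_iff.mpr ⟨Q * P⁻¹, ?_⟩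
  have h1 : ((P⁻¹ * g * P : GL (Fin 2) F) : Matrix (Fin 2) (Fin 2) F) =
      (Q⁻¹ * h * Q : GL (Fin 2) F) := by
    simp only [GeneralLinearGroup.coe_mul, mul_assoc]
    rw [hP, hQ, ← mul_assoc, ← mul_assoc, ← GeneralLinearGroup.coe_mul,
      ← GeneralLinearGroup.coe_mul, inv_mul_cancel, inv_mul_cancel]
  have h2 : P⁻¹ * g * P = Q⁻¹ * h * Q := Units.ext h1
  calc Q * P⁻¹ * g * (Q * P⁻¹)⁻¹ = Q * (P⁻¹ * g * P) * Q⁻¹ := by group
    _ = Q * (Q⁻¹ * h * Q) * Q⁻¹ := by rw [h2]
    _ = h := by group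

end CfsgLib.GL2Classes
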